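import Cfsg.Prelude.Def_Spor_Ly

/-! Generated: the generators of the Lyons group as words in a, b, c, d, z, and the relators so expanded. -/

set_option maxRecDepth 100000

namespace Cfsg.Agent.LyMat

open Cfsg.Spor

/-- Each generator as a word in a, b, c, d, z. -/
def expG : Ly.Gen → List (Fin 5 × Bool)
  | .a => [(0, true)]
  | .b => [(1, true)]
  | .c => [(2, true)]
  | .d => [(3, true)]
  | .z => [(4, true)]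
  | .e => [(1, false), (1, false), (0, false), (2, false), (0, true), (2, true), (0, false), (2, true), (0, true), (3, true), (2, true), (1, true), (0, true), (1, false), (3, true), (2, true), (3, true)]
  | .a1 => [(0, true)]
  | .a2 => [(1, true), (0, true), (1, false)]
  | .a3 => [(1, true), (1, true), (0, true), (1, false), (1, false)]
  | .a4 => [(1, false), (1, false), (0, true), (1, true), (1, true)]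
  | .c1 => [(2, true)]
  | .c2 => [(0, false), (2, true), (0, true)]
  | .c3 => [(1, false), (2, true), (1, true)]
  | .c4 => [(1, true), (2, true), (1, false)]
  | .c5 => [(2, false), (0, false), (2, false), (0, true), (2, true), (0, false), (2, true), (0, true)]
  | .u => [(0, true), (0, true)]
  | .x23 => [(3, true)]
  | .x24 => [(3, false)]
  | .x25 => [(1, true), (1, true), (0, false), (1, false), (0, false), (1, true), (1, true), (2, false), (0, true), (2, true), (0, false), (2, false), (3, true), (2, false), (1, true), (1, true), (0, false), (2, true), (1, true)]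
  | .x29 => [(0, true), (1, true), (0, false), (1, true), (1, true), (0, false), (1, true), (1, true), (2, false), (0, true), (2, true), (1, true), (2, true), (1, false), (3, true), (2, true), (1, false), (1, false), (3, true), (2, true), (1, true), (2, true)]
  | .x47 => [(2, false), (3, false), (0, false), (2, false), (0, false), (1, true), (2, false), (3, false)]
  | .x96 => [(1, true), (3, true)]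
  | .x129 => [(3, false), (1, false)]
  | .x162 => [(0, false), (1, false), (0, false), (1, true), (2, false), (1, false), (0, true), (2, false), (1, true), (0, true)]
  | .x163 => [(1, false), (1, false), (0, true), (2, true), (0, false), (1, true), (2, true), (1, true)]
  | .x164 => [(0, false), (1, false), (0, false), (2, true), (0, true), (1, true), (0, true)]
  | .x165 => [(1, false), (0, false), (1, true), (2, true), (1, false), (0, true), (1, true)]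
  | .x166 => [(1, true), (1, true), (0, false), (1, false), (2, true), (1, true), (0, true), (2, true), (1, false), (1, false), (2, false)]
  | .x167 => [(0, false), (0, false), (0, false)]
  | .x168 => [(1, true), (0, false), (1, false), (0, false), (0, false)]
  | .x169 => [(0, true), (1, true), (1, true), (0, true), (1, false), (1, false), (0, false)]
  | .x364 => [(0, false), (3, true), (1, false), (2, false), (0, false), (1, true), (2, false), (3, false), (1, true), (2, false), (1, false), (0, false), (2, false), (0, true), (1, false), (0, true), (1, true), (0, true), (1, false)]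
  | .x365 => [(0, true), (1, false), (1, false), (0, false), (2, true), (1, true), (2, false), (1, true), (0, false), (2, false), (2, false), (3, true), (2, true), (0, true), (2, true), (0, false), (2, true), (1, false), (3, false)]
  | .x366 => [(1, true), (0, true), (1, false), (0, false), (1, false), (1, false), (0, false), (1, false), (2, true), (1, true), (1, true), (2, true), (1, true), (3, true), (2, true), (1, false), (1, false), (3, true), (2, true), (1, true), (2, true)]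
  | .x367 => [(2, false), (1, false), (2, false), (3, false), (1, true), (1, true), (2, false), (3, false), (1, false), (2, false), (1, false), (1, false), (2, false), (1, true), (0, true), (1, true), (1, true), (0, true), (1, true), (0, false), (1, false)]
  | .x368 => [(0, false), (2, false), (3, false), (0, true), (2, false), (1, false), (0, true), (2, false), (3, false), (0, false), (2, false), (0, true), (2, true), (1, false), (1, false), (2, false), (1, false), (0, false), (1, false), (1, false)]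
  | .x369 => [(0, false), (2, false), (3, false), (1, true), (0, false), (1, false), (2, false), (3, false), (1, true), (0, false), (1, false), (2, false), (1, false), (0, true), (1, false), (1, false), (0, true), (1, false)]
  | .x370 => [(3, false), (0, true), (2, true), (1, true), (2, true), (0, false), (2, false), (3, false), (0, true), (1, false), (0, false), (2, true), (0, false), (1, false), (1, false), (0, false), (1, true), (0, false)]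
  | .x371 => [(2, false), (0, false), (2, true), (1, true), (2, false), (3, false), (2, true), (0, false), (2, true), (0, true), (2, true), (1, false), (0, false), (1, false), (0, false), (1, true)]

/-- A word in all generators, expanded. -/
def expW0 (l : List (Ly.Gen × Bool)) : List (Fin 5 × Bool) :=
  l.flatMap fun p => cond p.2 (expG p.1) (FreeGroup.invRev (expG p.1))

/-- A word in all generators, expanded and freely reduced. -/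
def expW (l : List (Ly.Gen × Bool)) : List (Fin 5 × Bool) := FreeGroup.reduce (expW0 l)

/-- The number of a letter. -/
def code (p : Fin 5 × Bool) : Nat := cond p.2 p.1.val (p.1.val + 5)

/-- The expanded relators. -/
def lits : List (List Nat) := [
  [0, 0, 0, 0, 0, 0, 0, 0],
  [1, 1, 1, 1, 1],
  [0, 1, 0, 1, 0, 1, 0, 1],
  [5, 5, 6, 0, 0, 1],
  [5, 6, 0, 1, 5, 6, 0, 1, 5, 6, 0, 1],
  [],
  [],
  [],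
  [],
  [],
  [2, 2, 2, 2, 2],
  [7, 5, 7, 0, 2, 5, 2, 0, 7, 5, 7, 0, 2, 5, 2, 0, 7, 5, 7, 0, 2, 5, 2, 0, 7, 5, 7, 0, 2, 5, 2, 0, 7, 5, 7, 0, 2, 5, 2, 0],
  [7, 5, 7, 0, 7, 5, 2, 0, 2, 5, 7, 0, 2, 5, 2, 0],
  [5, 7, 7, 0, 7, 5, 2, 0, 2, 5, 2, 0, 7, 5, 7, 0, 2, 5, 2, 0],
  [6, 7, 1, 5, 7, 0, 7, 5, 2, 0, 2, 6, 2, 1, 7, 5, 7, 0, 2, 5, 2, 0],
  [1, 7, 6, 5, 7, 0, 7, 5, 2, 0, 2, 1, 2, 6, 7, 5, 7, 0, 2, 5, 2, 0],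
  [7, 6, 7, 1, 2, 6, 2, 1, 7, 5, 7, 0, 2, 5, 2, 0, 7, 5, 7, 0, 2, 5, 2, 0],
  [7, 1, 7, 6, 2, 1, 2, 6, 5, 7, 0, 7, 5, 2, 0, 2, 5, 7, 0, 7, 5, 2, 0, 2],
  [5, 7, 0, 6, 7, 1, 5, 2, 0, 6, 2, 1, 7, 5, 7, 0, 2, 5, 2, 0],
  [5, 7, 0, 1, 7, 6, 5, 2, 0, 1, 2, 6],
  [6, 7, 1, 1, 7, 6, 6, 2, 1, 1, 2, 6, 7, 5, 7, 0, 2, 5, 2, 0],
  [5, 5, 2, 0, 0, 2, 2],
  [5, 6, 2, 1, 0, 1, 7, 6, 7, 6, 2, 2, 1],
  [5, 1, 2, 6, 0, 1, 7, 6, 7, 1, 7, 6, 6, 2, 1, 5, 2, 0, 7],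
  [5, 7, 5, 7, 0, 2, 5, 2, 0, 7, 0, 7, 5, 2, 0, 2, 5, 7, 0, 7, 5, 2, 0, 2],
  [6, 5, 2, 0, 1, 1, 2, 6, 2, 1, 2, 6, 6, 7, 1, 5, 7, 0],
  [6, 6, 2, 1, 2, 2, 1, 1, 7, 6, 7, 7],
  [6, 7, 5, 7, 0, 2, 5, 2, 0, 1, 5, 7, 0, 7, 5, 2, 0, 2],
  [],
  [6, 6, 5, 7, 0, 2, 5, 2, 0, 3, 2, 1, 0, 6, 3, 2, 3, 6, 6, 5, 7, 0, 2, 5, 2, 0, 3, 2, 1, 0, 6, 3, 2, 3],
  [8, 7, 8, 1, 5, 6, 7, 8, 5, 7, 0, 7, 5, 2, 0, 1, 1, 2, 6, 6, 5, 7, 0, 2, 5, 2, 0, 3, 2, 1, 0, 6, 3, 2, 3, 2, 6, 6, 7],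
  [8, 7, 8, 1, 5, 6, 7, 8, 5, 7, 0, 7, 5, 2, 0, 1, 2, 6, 5, 7, 0, 2, 5, 2, 0, 3, 2, 1, 0, 6, 3, 2, 3, 0, 1, 2, 6, 2, 5, 7, 6, 6],
  [8, 7, 8, 1, 5, 6, 7, 8, 5, 7, 0, 7, 5, 2, 0, 1, 1, 1, 2, 6, 6, 6, 5, 7, 0, 2, 5, 2, 0, 3, 2, 1, 0, 6, 3, 2, 3, 1, 7, 6, 6, 2, 6],
  [8, 7, 8, 1, 5, 6, 7, 8, 5, 7, 0, 7, 5, 2, 0, 1, 1, 7, 5, 7, 0, 2, 5, 2, 0, 6, 6, 5, 7, 0, 2, 5, 2, 0, 3, 2, 1, 0, 6, 3, 2, 3, 1, 2, 6, 7, 6, 2, 1, 7],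
  [6, 6, 5, 7, 0, 2, 5, 2, 0, 3, 2, 1, 0, 6, 3, 2, 3, 0, 0, 6, 6, 5, 7, 0, 2, 5, 2, 0, 3, 2, 1, 0, 6, 3, 2, 3, 1, 2, 6, 5, 7, 0, 7, 5, 2, 1, 5, 6, 6, 5],
  [8, 7, 8, 1, 5, 6, 7, 8, 5, 7, 0, 7, 5, 2, 0, 1, 5, 7, 0, 2, 5, 2, 0, 3, 2, 1, 0, 6, 3, 2, 3, 1, 2, 2, 6, 6, 2, 1, 7],
  [6, 6, 5, 7, 0, 2, 5, 2, 0, 3, 2, 1, 0, 6, 3, 2, 3, 0, 1, 1, 0, 6, 0, 6, 6, 5, 7, 0, 2, 5, 2, 0, 3, 2, 1, 0, 6, 3, 2, 3, 1, 2, 6, 5, 7, 0, 7, 5, 2, 5],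
  [6, 6, 5, 7, 0, 2, 5, 2, 0, 3, 2, 1, 0, 6, 3, 2, 3, 5, 2, 0, 6, 6, 5, 7, 0, 2, 5, 2, 0, 3, 2, 1, 0, 6, 3, 2, 3, 5, 7, 0, 6, 6, 5, 7, 0, 2, 5, 2, 0, 3, 2, 1, 0, 6, 3, 2, 3, 5, 2, 0, 1, 7, 6, 0, 6, 2, 1, 0, 0, 0],
  [7, 8, 1, 5, 6, 7, 8, 5, 7, 0, 7, 5, 2, 0, 1, 5, 2, 8, 7, 8, 1, 5, 6, 7, 8, 5, 7, 0, 7, 5, 2, 0, 1, 1, 5, 8, 7, 8, 1, 5, 6, 7, 8, 5, 7, 0, 7, 5, 2, 0, 1, 1, 5, 7, 5, 7, 0, 2, 5, 2, 0, 1, 2, 6, 2, 1, 0, 6, 6, 5],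
  [3, 3, 5, 5, 5, 5],
  [6, 8, 1, 3],
  [8, 0, 3, 5, 5, 5],
  [3, 7, 5, 7, 0, 2, 5, 2, 0, 3, 7, 5, 7, 0, 2, 5, 2, 0, 3, 7, 5, 7, 0, 2, 5, 2, 0, 3, 7, 5, 7, 0, 2, 5, 2, 0, 3, 7, 5, 7, 0, 2, 5, 2, 0],
  [3, 7, 5, 7, 0, 2, 5, 2, 0, 3, 5, 7, 0, 7, 5, 2, 0, 2, 3, 7, 5, 7, 0, 2, 5, 2, 5],
  [],
  [],
  [],
  [],
  [],
  [],
  [],
  [],
  [],
  [],
  [],
  [],
  [],
  [],
  [],
  [],
  [],
  [],
  [],
  [],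
  [],
  [],
  [],
  [],
  [],
  [],
  [],
  [],
  [9, 2, 4, 5, 6, 2, 5, 1, 2, 6, 0, 1, 0],
  [9, 5, 2, 0, 4, 6, 7, 6, 0, 7, 5, 1, 1],
  [9, 6, 2, 1, 4, 5, 6, 5, 7, 0, 1, 0],
  [9, 1, 2, 6, 4, 6, 5, 1, 7, 6, 0, 1],
  [9, 7, 5, 7, 0, 2, 5, 2, 0, 4, 2, 1, 1, 7, 5, 6, 7, 1, 0, 6, 6],
  [9, 0, 4, 0, 0, 0],
  [9, 1, 0, 6, 4, 0, 0, 1, 0, 6],
  [9, 1, 1, 0, 6, 6, 4, 0, 1, 1, 5, 6, 6, 5],
  [4, 4, 5, 5],
  [6, 6, 0, 1, 1, 4, 6, 6, 0, 1, 1, 4, 6, 6, 0, 1, 1, 4, 0, 0],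
  [7, 8, 5, 7, 5, 1, 7, 8, 4, 5, 3, 6, 7, 5, 1, 7, 8, 1, 7, 6, 5, 7, 0, 6, 0, 1, 0, 6, 4, 5, 7, 8, 0, 7, 6, 0, 7, 8, 5, 7, 0, 2, 6, 6, 7, 6, 5, 6, 6, 4],
  [9, 8, 9, 5, 7, 8, 1, 5, 6, 7, 8, 1, 5, 6, 7, 6, 0, 6, 6, 0, 6, 4, 3, 4, 0, 1, 5, 1, 1, 5, 1, 1, 7, 0, 2, 1, 2, 6, 3, 2, 6, 6, 3, 2, 1, 2],
  [4, 1, 0, 6, 5, 6, 6, 5, 6, 2, 1, 1, 2, 1, 3, 2, 6, 6, 3, 2, 1, 2, 4, 0, 6, 6, 5, 2, 1, 7, 1, 5, 7, 7, 3, 2, 0, 2, 5, 2, 6, 8, 9, 7, 6, 7, 8, 1, 1, 7, 8, 6, 7, 6, 6, 7, 1, 0, 1, 1, 0, 1, 5, 6, 9, 8, 0, 2, 1, 2, 5, 7, 8, 0, 6, 5, 2, 5, 6, 6, 5, 1, 5],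
  [4, 1, 3, 4, 1, 1, 5, 6, 5, 1, 1, 7, 0, 2, 5, 7, 3, 7, 1, 1, 5, 2, 1, 9, 8, 6, 9, 7, 5, 2, 1, 7, 8, 2, 5, 2, 0, 2, 6, 5, 6, 5, 1]]

/-- Root elements as words in the first four generators. -/
def rootW : List (List Nat) := [
  [],
  [8, 7, 5, 7, 0, 2, 5, 2, 0, 7, 5, 7, 0, 2, 5, 2, 0, 7, 5, 7, 0, 2, 5, 2, 0, 3],
  [8, 7, 5, 7, 0, 2, 5, 2, 0, 3],
  [8, 7, 5, 7, 0, 2, 5, 2, 0, 7, 5, 7, 0, 2, 5, 2, 0, 7, 5, 7, 0, 2, 5, 2, 0, 7, 5, 7, 0, 2, 5, 2, 0, 3],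
  [8, 7, 5, 7, 0, 2, 5, 2, 0, 7, 5, 7, 0, 2, 5, 2, 0, 3],
  [],
  [8, 2, 2, 2, 5, 2, 0, 2, 1, 2, 6, 3],
  [8, 2, 2, 5, 2, 0, 5, 2, 0, 1, 2, 6, 2, 1, 2, 6, 3],
  [3, 2, 2, 5, 2, 0, 5, 2, 0, 1, 2, 6, 2, 1, 2, 6, 8],
  [3, 2, 2, 2, 5, 2, 0, 2, 1, 2, 6, 8],
  [],
  [3, 2, 2, 2, 2, 6, 2, 1, 6, 2, 1, 1, 2, 6, 8],
  [8, 2, 2, 6, 2, 1, 1, 2, 6, 1, 2, 6, 1, 2, 6, 3],
  [3, 2, 2, 6, 2, 1, 1, 2, 6, 1, 2, 6, 1, 2, 6, 8],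
  [8, 2, 2, 2, 2, 6, 2, 1, 6, 2, 1, 1, 2, 6, 3],
  [],
  [8, 2, 2, 6, 2, 1, 2, 2, 3],
  [8, 2, 6, 2, 1, 2, 6, 2, 1, 2, 3],
  [3, 2, 6, 2, 1, 2, 6, 2, 1, 2, 8],
  [3, 2, 2, 6, 2, 1, 2, 2, 8],
  [],
  [1, 0, 1, 0, 1, 1, 0, 1, 0],
  [1, 0, 1, 0, 1, 1, 1, 0, 1, 0],
  [0, 0, 1, 1, 0, 1, 1, 1, 1, 0, 1],
  [0, 0, 1, 0, 1, 1, 0],
  [],
  [3, 2, 6, 2, 1, 1, 2, 6, 1, 2, 6, 6, 2, 1, 8],
  [8, 2, 2, 6, 2, 1, 2, 1, 2, 6, 7, 5, 7, 0, 2, 5, 2, 0, 3],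
  [3, 2, 2, 6, 2, 1, 2, 1, 2, 6, 7, 5, 7, 0, 2, 5, 2, 0, 8],
  [8, 2, 6, 2, 1, 1, 2, 6, 1, 2, 6, 6, 2, 1, 3],
  [],
  [2, 2, 2, 5, 2, 0, 2, 1, 2, 6],
  [2, 2, 5, 2, 0, 5, 2, 0, 1, 2, 6, 2, 1, 2, 6],
  [2, 5, 2, 0, 5, 2, 0, 5, 2, 0, 1, 2, 6, 1, 2, 6, 1, 2, 6, 2],
  [5, 2, 0, 2, 5, 2, 0, 5, 2, 0, 5, 2, 0, 1, 2, 6, 1, 2, 6, 1, 2, 6, 1, 2, 6],
  [],
  [1],
  [1, 1],
  [1, 1, 1],
  [1, 1, 1, 1],
  [],
  [2, 6, 2, 1, 6, 2, 1, 6, 2, 1, 1, 2, 6, 1, 2, 6, 1, 2, 6, 1, 2, 6],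
  [2, 2, 6, 2, 1, 1, 2, 6, 1, 2, 6, 1, 2, 6],
  [2, 2, 2, 6, 2, 1, 6, 2, 1, 6, 2, 1, 6, 2, 1, 1, 2, 6, 1, 2, 6],
  [2, 2, 2, 2, 6, 2, 1, 6, 2, 1, 1, 2, 6],
  [],
  [6, 2, 1, 6, 2, 1, 2, 6, 2, 1, 6, 2, 1],
  [2, 6, 2, 1, 6, 2, 1, 6, 2, 1, 2],
  [2, 6, 2, 1, 2, 6, 2, 1, 2],
  [2, 2, 6, 2, 1, 2, 2],
  [],
  [2, 6, 2, 1, 1, 2, 6, 1, 2, 6, 6, 2, 1],
  [2, 2, 6, 2, 1, 6, 2, 1, 6, 2, 1, 1, 2, 6, 1, 2, 6, 1, 2, 6, 6, 2, 1, 1, 2, 6],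
  [2, 2, 6, 2, 1, 2, 1, 2, 6, 7, 5, 7, 0, 2, 5, 2, 0],
  [2, 2, 2, 2, 6, 2, 1, 6, 2, 1, 1, 2, 6, 1, 2, 6, 6, 2, 1, 1, 2, 6],
  [],
  [7, 5, 7, 0, 2, 5, 2, 0, 7, 5, 7, 0, 2, 5, 2, 0],
  [7, 5, 7, 0, 2, 5, 2, 0, 7, 5, 7, 0, 2, 5, 2, 0, 7, 5, 7, 0, 2, 5, 2, 0, 7, 5, 7, 0, 2, 5, 2, 0],
  [7, 5, 7, 0, 2, 5, 2, 0],
  [7, 5, 7, 0, 2, 5, 2, 0, 7, 5, 7, 0, 2, 5, 2, 0, 7, 5, 7, 0, 2, 5, 2, 0]]

/-- The ten letters as words in root elements. -/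
def genW : List (List Nat) := [
  [46, 31, 67, 12, 67, 69, 11, 69, 62, 17, 62, 64, 16, 64],
  [46],
  [51, 56, 56, 56, 51, 61],
  [66, 14, 66],
  [],
  [61, 19, 61, 63, 18, 63, 66, 14, 66, 68, 13, 68, 34, 49],
  [49],
  [64, 54, 59, 59, 59, 54],
  [69, 11, 69],
  []]

end Cfsg.Agent.LyMat
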