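import Cfsg.Agent.LyMat.Pack
import Cfsg.Agent.LyMat.Words

/-!
# The Lyons generators as products of five invertible matrices

Every generator is a word in a, b, c, d, z; a word in all generators goes to the product over its
expansion.
-/

set_option autoImplicit false
set_option maxRecDepth 100000

namespace Cfsg.Agent.LyMat

open Cfsg.Spor

/-- The letters `x` and `x + 5` are inverse to each other. -/
def InvOK {R : Type*} [Monoid R] (M : Nat → R) : Prop :=
  ∀ x < 5, M x * M (x + 5) = 1 ∧ M (x + 5) * M x = 1

/-- The unit of a letter given with its inverse. -/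
def unitOf {R : Type*} [Monoid R] (M : Nat → R)
    (h : InvOK M) (i : Fin 5) : Rˣ :=
  ⟨M i.val, M (i.val + 5), (h i.val i.isLt).1, (h i.val i.isLt).2⟩

/-- The generators' images. -/
noncomputable def genImg {G : Type*} [Group G] (u : Fin 5 → G) (g : Ly.Gen) : G :=
  FreeGroup.lift u (FreeGroup.mk (expG g))

theorem lift_genImg0 {G : Type*} [Group G] (u : Fin 5 → G) :
    ∀ l : List (Ly.Gen × Bool), FreeGroup.lift (genImg u) (FreeGroup.mk l) =
      FreeGroup.lift u (FreeGroup.mk (expW0 l))
  | [] => by simp [expW0, ← FreeGroup.one_eq_mk]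
  | (g, b) :: l => by
    rw [show (g, b) :: l = [(g, b)] ++ l from rfl, ← FreeGroup.mul_mk, map_mul, lift_genImg0 u l,
      show expW0 ([(g, b)] ++ l) = cond b (expG g) (FreeGroup.invRev (expG g)) ++ expW0 l by
        simp [expW0],
      ← FreeGroup.mul_mk, map_mul]
    congr 1
    cases b
    · simp [FreeGroup.lift_mk, genImg, ← FreeGroup.inv_mk]
    · simp [FreeGroup.lift_mk, genImg]

theorem lift_genImg {G : Type*} [Group G] (u : Fin 5 → G) (l : List (Ly.Gen × Bool)) :
    FreeGroup.lift (genImg u) (FreeGroup.mk l) = FreeGroup.lift u (FreeGroup.mk (expW l)) := by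
  rw [lift_genImg0, expW, FreeGroup.reduce.self]

theorem coe_lift {R : Type*} [Monoid R] (M : Nat → R)
    (h : InvOK M) :
    ∀ l : List (Fin 5 × Bool), ((FreeGroup.lift (unitOf M h) (FreeGroup.mk l) : Rˣ) : R) =
      ((l.map code).map M).prod
  | [] => by simp [← FreeGroup.one_eq_mk]
  | (i, b) :: l => by
    rw [show (i, b) :: l = [(i, b)] ++ l from rfl, ← FreeGroup.mul_mk, map_mul, Units.val_mul,
      coe_lift M h l, List.map_append, List.map_append, List.prod_append]
    congr 1
    cases b <;> simp [FreeGroup.lift_mk, unitOf, code]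

theorem coe_genImg {R : Type*} [Monoid R] (M : Nat → R)
    (h : InvOK M) (l : List (Ly.Gen × Bool)) :
    ((FreeGroup.lift (genImg (unitOf M h)) (FreeGroup.mk l) : Rˣ) : R) =
      (((expW l).map code).map M).prod := by
  rw [lift_genImg, coe_lift]

theorem coe_genImg0 {R : Type*} [Monoid R] (M : Nat → R)
    (h : InvOK M) (l : List (Ly.Gen × Bool)) :
    ((FreeGroup.lift (genImg (unitOf M h)) (FreeGroup.mk l) : Rˣ) : R) =
      (((expW0 l).map code).map M).prod := by
  rw [lift_genImg0, coe_lift]

theorem lits_eq : Ly.extra.map (fun r => (expW r.toWord).map code) = lits := by decide +kernel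

end Cfsg.Agent.LyMat
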