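import Cfsg.Agent.LyMat.Check
import Cfsg.Agent.LyMat.Units
import Cfsg.Agent.CosetCert.LyChain1.Main
import Cfsg.Agent.CosetCert.LyChain2.Main
import Cfsg.Agent.CosetCert.LyChain3.Main
import Cfsg.Agent.CosetCert.LyChain4.Main
import Cfsg.Agent.Chev.All
import Cfsg.Agent.Chev.SimpleAll
import Cfsg.Agent.Chev.WeylAll
import Cfsg.Prelude.Def_ChevG2

/-!
# The subgroup ⟨a, b, c, d⟩ of the presented Lyons group is `G2(5)`

Four coset enumerations bound the order of the group presented by the first 44 relators, explicit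
elements of `G2(5)` satisfy them and generate, and a representation of degree 111 modulo 5 shows
that the image in the Lyons group is not trivial.
-/

set_option autoImplicit false
set_option maxRecDepth 100000
set_option maxHeartbeats 1000000

namespace Cfsg.Agent.LyMat

open Cfsg.Agent.CosetCert Cfsg.Spor Cfsg.Lie
open scoped MatrixGroups

instance : Fact (Nat.Prime 5) := ⟨by norm_num⟩

/-- The relators of the presented Lyons group. -/
abbrev lyRels : Set (FreeGroup Ly.Gen) := coxRelators Ly.edges ∪ {r | r ∈ Ly.extra}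

theorem rels_mem {r : FreeGroup Ly.Gen} (hr : r ∈ lyRels) : r ∈ Ly.extra := by
  rcases hr with ⟨x, hx, -⟩ | hr
  · exact absurd hx (by simp [coxNodes, Ly.edges])
  · exact hr

theorem good111 : ((List.range 10).all fun x => goodC 111 (rowsOf 111 (m111 x))) && goodC 111 id111 = true := by
  decide +kernel

theorem good14 : ((List.range 70).all fun x => goodC 14 (rowsOf 14 (m14 x))) && goodC 14 id14 = true := by
  decide +kernel

theorem good_m111 (x : Nat) : Good 111 (rowsOf 111 (m111 x)) := by
  have h := Bool.and_eq_true_iff.1 good111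
  by_cases hx : x < 10
  · exact good_of_check (List.all_eq_true.1 h.1 x (List.mem_range.2 hx))
  · rw [m111, List.getD_eq_default _ _ (by simp; omega)]
    exact good_of_check (List.all_eq_true.1 h.1 0 (List.mem_range.2 (by norm_num)))

theorem good_m14 (x : Nat) : Good 14 (rowsOf 14 (m14 x)) := by
  have h := Bool.and_eq_true_iff.1 good14
  by_cases hx : x < 70
  · exact good_of_check (List.all_eq_true.1 h.1 x (List.mem_range.2 hx))
  · rw [m14, List.getD_eq_default _ _ (by simp [g14]; omega)]
    exact good_of_check h.2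

theorem good_id111 : Good 111 id111 := good_of_check (Bool.and_eq_true_iff.1 good111).2

theorem good_id14 : Good 14 id14 := good_of_check (Bool.and_eq_true_iff.1 good14).2

theorem id111_check : allFrom (fun i => allFrom (fun j =>
    Nat.beq (fieldN (id111.getD i 0) j) (cond (Nat.beq i j) 1 0)) 0 111) 0 111 = true := by
  decide +kernel

theorem id14_check : allFrom (fun i => allFrom (fun j =>
    Nat.beq (fieldN (id14.getD i 0) j) (cond (Nat.beq i j) 1 0)) 0 14) 0 14 = true := by
  decide +kernel

theorem toMat_one {n : Nat} {I : List Nat} (h : allFrom (fun i => allFrom (fun j =>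
    Nat.beq (fieldN (I.getD i 0) j) (cond (Nat.beq i j) 1 0)) 0 n) 0 n = true) : toMat n I = 1 := by
  ext i j
  have h1 := Nat.eq_of_beq_eq_true ((allFrom_iff _ _ _).1 ((allFrom_iff _ _ _).1 h i (Nat.zero_le _)
    (by have := i.2; omega)) j (Nat.zero_le _) (by have := j.2; omega))
  simp only [toMat, Matrix.of_apply, h1, Matrix.one_apply]
  by_cases hij : i = j
  · subst hij; simp
  · rw [if_neg hij, show Nat.beq (i : Nat) (j : Nat) = false from by
      rw [← Bool.not_eq_true, Nat.beq_eq]; exact fun e => hij (Fin.ext e)]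
    simp

theorem mask111_eq : mask111 = maskF 111 := by decide +kernel

theorem mask14_eq : mask14 = maskF 14 := by decide +kernel

/-- The matrices of degree 111. -/
noncomputable def M111 (x : Nat) : Matrix (Fin 111) (Fin 111) (ZMod 5) := toMat 111 (rowsOf 111 (m111 x))

/-- The matrices of degree 14. -/
noncomputable def M14 (x : Nat) : Matrix (Fin 14) (Fin 14) (ZMod 5) := toMat 14 (rowsOf 14 (m14 x))

theorem spec111 {T w : List Nat} (h : relB mask111 m111 id111 T w = true) :
    (w.map M111).prod = toMat 111 T :=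
  relB_spec (by norm_num) mask111_eq good_m111 good_id111 (toMat_one id111_check) h

theorem spec14 {T w : List Nat} (h : relB mask14 m14 id14 T w = true) :
    (w.map M14).prod = toMat 14 T :=
  relB_spec (by norm_num) mask14_eq good_m14 good_id14 (toMat_one id14_check) h

theorem inv111 : InvOK M111 := by
  intro x hx
  have h := Bool.and_eq_true_iff.1 (List.all_eq_true.1 ly_inv x (List.mem_range.2 hx))
  have h1 := spec111 h.1
  have h2 := spec111 h.2
  simp only [List.map_cons, List.map_nil, List.prod_cons, List.prod_nil, mul_one,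
    toMat_one id111_check] at h1 h2
  exact ⟨h1, h2⟩

theorem inv14 : InvOK M14 := by
  intro x hx
  have h := Bool.and_eq_true_iff.1 (List.all_eq_true.1 g2_inv x (List.mem_range.2 hx))
  have h1 := spec14 h.1
  have h2 := spec14 h.2
  simp only [List.map_cons, List.map_nil, List.prod_cons, List.prod_nil, mul_one,
    toMat_one id14_check] at h1 h2
  exact ⟨h1, h2⟩

theorem lits_length : lits.length = 86 := by decide +kernel

theorem rels_of_lits {R : Type*} [Monoid R] (M : Nat → R)
    (h : InvOK M)
    (hl : ∀ w ∈ lits, (w.map M).prod = 1) :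
    ∀ r ∈ lyRels, FreeGroup.lift (genImg (unitOf M h)) r = 1 := by
  intro r hr
  apply Units.ext
  rw [← FreeGroup.mk_toWord (x := r), coe_genImg, Units.val_one]
  exact hl _ (lits_eq ▸ List.mem_map_of_mem (f := fun r => (expW r.toWord).map code) (rels_mem hr))

theorem lits111 : ∀ w ∈ lits, (w.map M111).prod = 1 := by
  intro w hw
  obtain ⟨k, hk, he⟩ := List.mem_iff_getElem.1 hw
  have h := ly_all k (lits_length ▸ hk)
  rw [List.getD_eq_getElem _ _ hk, he] at h
  exact (spec111 h).trans (toMat_one id111_check)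

theorem M111_zero : M111 0 = toMat 111 (rowsOf 111 lm0) := rfl

attribute [local irreducible] M111

theorem ly_rels : ∀ r ∈ lyRels, FreeGroup.lift (genImg (unitOf M111 inv111)) r = 1 :=
  rels_of_lits M111 inv111 lits111

theorem coe_genImg_a {R : Type*} [Monoid R] (M : Nat → R)
    (h : InvOK M) :
    ((genImg (unitOf M h) Ly.Gen.a : Rˣ) : R) = M 0 := by
  rw [genImg, show expG Ly.Gen.a = [((0 : Fin 5), true)] from rfl, coe_lift]
  simp [code]

/-- The representation of degree 111. -/
noncomputable def lyRep : PresentedGroup lyRels →* (Matrix (Fin 111) (Fin 111) (ZMod 5))ˣ :=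
  PresentedGroup.toGroup ly_rels

theorem lm0_witness : ((List.range 111).any fun j =>
    !(Nat.beq (fieldN ((rowsOf 111 lm0).getD 0 0) j % 5) (fieldN (id111.getD 0 0) j % 5))) = true := by
  decide +kernel

theorem of_a_ne : (PresentedGroup.of Ly.Gen.a : PresentedGroup lyRels) ≠ 1 := by
  intro h
  have h1 : genImg (unitOf M111 inv111) Ly.Gen.a = 1 := by
    rw [← PresentedGroup.toGroup.of ly_rels, h, map_one]
  have h2 := congrArg Units.val h1
  rw [Units.val_one, ← toMat_one id111_check] at h2
  rw [coe_genImg_a, M111_zero] at h2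
  obtain ⟨j, hj, hne⟩ := List.any_eq_true.1 lm0_witness
  have hj' := List.mem_range.1 hj
  have e : toMat 111 (rowsOf 111 lm0) ⟨0, by norm_num⟩ ⟨j, hj'⟩ =
      toMat 111 id111 ⟨0, by norm_num⟩ ⟨j, hj'⟩ := by rw [h2]
  simp only [toMat, Matrix.of_apply, ZMod.natCast_eq_natCast_iff'] at e
  rw [e, Nat.beq_refl] at hne
  simp at hne

/-- The relators of a group presented by signed words go to relators of the Lyons group. -/
def lyOk {β : Type} (RL : List (List (β × Bool))) (f : β → Ly.Gen) : Bool :=
  RL.all fun l => decide (l.map (fun a => (f a.1, a.2)) ∈ Ly.extra.map FreeGroup.toWord)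

theorem one_of_ok {β : Type} {RL : List (List (β × Bool))} {f : β → Ly.Gen} (h : lyOk RL f = true)
    (l : List (β × Bool)) (hl : l ∈ RL) :
    PresentedGroup.mk lyRels (FreeGroup.mk (l.map fun a => (f a.1, a.2))) = 1 := by
  obtain ⟨r, hr, he⟩ := List.mem_map.1 (of_decide_eq_true (List.all_eq_true.1 h l hl))
  rw [← he, FreeGroup.mk_toWord]
  exact PresentedGroup.one_of_mem (Or.inr hr)

/-- The group presented by the first 44 relators. -/
abbrev Q : Type := PresentedGroup (wordRels LyChain1.relWords)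

/-- The names of the generators of the second step. -/
def ren2 (b : Fin 8) : Fin 10 := ![0, 1, 2, 5, 6, 7, 8, 9] b

/-- The names of the generators of the third step. -/
def ren3 (b : Fin 2) : Fin 10 := ![0, 1] b

/-- The name of the generator of the last step. -/
def ren4 (_ : Fin 1) : Fin 10 := 1

theorem sub2 : ∀ l ∈ LyChain2.relWords,
    l.map (fun a => (ren2 a.1, a.2)) ∈ LyChain1.relWords := by decide +kernel

theorem sub3 : ∀ l ∈ LyChain3.relWords,
    l.map (fun a => (ren3 a.1, a.2)) ∈ LyChain1.relWords := by decide +kernel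

theorem sub4 : ∀ l ∈ LyChain4.relWords,
    l.map (fun a => (ren4 a.1, a.2)) ∈ LyChain1.relWords := by decide +kernel

theorem q_card : Finite Q ∧ Nat.card Q ≤ 5859000000 := by
  have h5 := letterSub_nil_card (wordRels LyChain1.relWords)
  have h4 := letterSub_card_le (rels := wordRels LyChain1.relWords) ren4 (List.finRange 1)
    LyChain4.subLetters [] rfl List.mem_finRange
    (fun l hl => PresentedGroup.one_of_mem (List.mem_map_of_mem (sub4 l hl)))
    LyChain4.index_bound h5
  have h3 := letterSub_card_le (rels := wordRels LyChain1.relWords) ren3 (List.finRange 2)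
    LyChain3.subLetters ((List.finRange 1).map ren4) (by decide +kernel) List.mem_finRange
    (fun l hl => PresentedGroup.one_of_mem (List.mem_map_of_mem (sub3 l hl)))
    LyChain3.index_bound h4
  have h2 := letterSub_card_le (rels := wordRels LyChain1.relWords) ren2 (List.finRange 8)
    LyChain2.subLetters ((List.finRange 2).map ren3) (by decide +kernel) List.mem_finRange
    (fun l hl => PresentedGroup.one_of_mem (List.mem_map_of_mem (sub2 l hl)))
    LyChain2.index_bound h3
  have hS : LyChain1.subLetters = (List.finRange 8).map ren2 := by decide +kernel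
  obtain ⟨hf, hc⟩ := card_le_top (rels := wordRels LyChain1.relWords) LyChain1.subLetters rfl
    LyChain1.index_bound (hS ▸ h2)
  exact ⟨hf, hc.trans (by norm_num)⟩

/-- The coordinates of the adjoint module, numbered. -/
def idxE : chevG2.Idx → Fin 14
  | .inl i => ⟨i.val, lt_of_lt_of_le i.isLt (by decide)⟩
  | .inr r => ⟨r.val + 2, Nat.add_lt_add_right r.isLt 2⟩

theorem idxE_bij : Function.Bijective idxE := by decide +kernel

/-- The numbering as an equivalence. -/
noncomputable def eI : chevG2.Idx ≃ Fin 14 := Equiv.ofBijective idxE idxE_bij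

/-- Reindexing as a ring isomorphism. -/
noncomputable def reI : Matrix chevG2.Idx chevG2.Idx (ZMod 5) ≃* Matrix (Fin 14) (Fin 14) (ZMod 5) :=
  (Matrix.reindexAlgEquiv (ZMod 5) (ZMod 5) eI).toMulEquiv

theorem idx_cases (i : chevG2.Idx) : i ∈ (List.finRange chevG2.rank).map Sum.inl ++
    (List.finRange chevG2.nroots).map Sum.inr := by
  cases i <;> simp

theorem root_check : ((List.finRange chevG2.nroots).all fun r => (List.range 5).all fun t =>
    ((List.finRange chevG2.rank).map Sum.inl ++ (List.finRange chevG2.nroots).map Sum.inr).all fun i =>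
    ((List.finRange chevG2.rank).map Sum.inl ++ (List.finRange chevG2.nroots).map Sum.inr).all fun j =>
      decide (((fieldN ((rowsOf 14 (m14 (10 + (5 * r.val + t)))).getD (idxE i).val 0) (idxE j).val : ℕ) :
        ZMod 5) = chevG2.xMat (ZMod 5) r (t : ZMod 5) i j)) = true := by
  decide +kernel

theorem root_entry (r : Fin chevG2.nroots) (t : ZMod 5) (i j : chevG2.Idx) :
    toMat 14 (rowsOf 14 (m14 (10 + (5 * r.val + t.val)))) (idxE i) (idxE j) =
      chevG2.xMat (ZMod 5) r t i j := by
  have h := of_decide_eq_true (List.all_eq_true.1 (List.all_eq_true.1 (List.all_eq_true.1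
    (List.all_eq_true.1 root_check r (List.mem_finRange r)) t.val (List.mem_range.2 (ZMod.val_lt t)))
      i (idx_cases i)) j (idx_cases j))
  rw [ZMod.natCast_zmod_val] at h
  exact h

/-- The images of the five letters in the matrix group. -/
noncomputable def gI (i : Fin 5) : GL chevG2.Idx (ZMod 5) :=
  (Units.mapEquiv reI).symm (unitOf M14 inv14 i)

theorem reI_root (r : Fin chevG2.nroots) (t : ZMod 5) :
    reI (chevG2.xMat (ZMod 5) r t) = M14 (10 + (5 * r.val + t.val)) := by
  ext i j
  obtain ⟨i, rfl⟩ := idxE_bij.2 i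
  obtain ⟨j, rfl⟩ := idxE_bij.2 j
  show Matrix.reindex eI eI (chevG2.xMat (ZMod 5) r t) (eI i) (eI j) = _
  simp only [Matrix.reindex_apply, Matrix.submatrix_apply, Equiv.symm_apply_apply]
  exact (root_entry r t i j).symm

/-- The units of `G2(5)`, numbered. -/
noncomputable def G14 : Subgroup (Matrix (Fin 14) (Fin 14) (ZMod 5))ˣ :=
  (chevG2.group (ZMod 5)).map (Units.mapEquiv reI).toMonoidHom

theorem root_mem {x : Nat} (h1 : 10 ≤ x) (h2 : x < 70) :
    ∃ g ∈ G14, (g : Matrix (Fin 14) (Fin 14) (ZMod 5)) = M14 x := by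
  let r : Fin chevG2.nroots := ⟨(x - 10) / 5, show (x - 10) / 5 < 12 by omega⟩
  let t : ZMod 5 := ((x - 10) % 5 : Nat)
  have ht : t.val = (x - 10) % 5 := ZMod.val_natCast_of_lt (Nat.mod_lt _ (by norm_num))
  refine ⟨Units.mapEquiv reI (Chev.xG Chev.facts_chevG2 r t), Subgroup.mem_map_of_mem _
    (Subgroup.subset_closure ⟨r, t, ?_⟩), ?_⟩
  · show chevG2.x (ZMod 5) r.val t = _
    rw [ChevalleyDatum.x, dif_pos r.2]
  · show reI (chevG2.x (ZMod 5) r.val t) = _
    rw [ChevalleyDatum.x, dif_pos r.2, reI_root, ht]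
    congr 1
    show 10 + (5 * ((x - 10) / 5) + (x - 10) % 5) = x
    omega

theorem word_mem : ∀ w : List Nat, (∀ x ∈ w, 10 ≤ x ∧ x < 70) →
    ∃ g ∈ G14, (g : Matrix (Fin 14) (Fin 14) (ZMod 5)) = (w.map M14).prod
  | [], _ => ⟨1, one_mem _, by simp⟩
  | x :: w, h => by
    obtain ⟨g, hg, hgv⟩ := root_mem (h x List.mem_cons_self).1 (h x List.mem_cons_self).2
    obtain ⟨g', hg', hgv'⟩ := word_mem w fun y hy => h y (List.mem_cons_of_mem _ hy)
    exact ⟨g * g', mul_mem hg hg', by rw [Units.val_mul, hgv, hgv', List.map_cons, List.prod_cons]⟩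

theorem genW_range : ((List.range 10).all fun x => (genW.getD x []).all fun y =>
    Nat.ble 10 y && Nat.blt y 70) = true := by decide +kernel

theorem unit_mem (i : Fin 5) : unitOf M14 inv14 i ∈ G14 := by
  obtain ⟨g, hg, hv⟩ := word_mem (genW.getD i.val []) (fun y hy => by
    have h := Bool.and_eq_true_iff.1 (List.all_eq_true.1 (List.all_eq_true.1 genW_range i.val
      (List.mem_range.2 (lt_trans i.isLt (by norm_num)))) y hy)
    exact ⟨Nat.le_of_ble_eq_true h.1, Nat.le_of_ble_eq_true h.2⟩)
  have h := spec14 (List.all_eq_true.1 g2_gens i.val (List.mem_range.2 (lt_trans i.isLt (by norm_num))))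
  have e : unitOf M14 inv14 i = g := Units.ext (by rw [hv, h]; rfl)
  exact e ▸ hg

theorem lift_mem (w : FreeGroup (Fin 5)) : FreeGroup.lift (unitOf M14 inv14) w ∈ G14 := by
  have : (FreeGroup.lift (unitOf M14 inv14)).range ≤ G14 := by
    rw [FreeGroup.range_lift_eq_closure, Subgroup.closure_le]
    rintro _ ⟨i, rfl⟩
    exact unit_mem i
  exact this ⟨w, rfl⟩

theorem q_words : (LyChain1.relWords.all fun l => decide
    ((expW (l.map fun a => (LyChain1.ren a.1, a.2))).map code ∈ lits.take 44)) = true := by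
  decide +kernel

/-- The images of the ten generators of `Q`. -/
noncomputable def qImg (b : Fin 10) : (Matrix (Fin 14) (Fin 14) (ZMod 5))ˣ :=
  genImg (unitOf M14 inv14) (LyChain1.ren b)

theorem lift_qImg (l : List (Fin 10 × Bool)) :
    FreeGroup.lift qImg (FreeGroup.mk l) = FreeGroup.lift (genImg (unitOf M14 inv14))
      (FreeGroup.mk (l.map fun a => (LyChain1.ren a.1, a.2))) := by
  simp [FreeGroup.lift_mk, List.map_map, Function.comp_def, qImg]

theorem q_rels : ∀ r ∈ wordRels LyChain1.relWords, FreeGroup.lift qImg r = 1 := by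
  intro r hr
  obtain ⟨l, hl, rfl⟩ := List.mem_map.1 hr
  apply Units.ext
  rw [lift_qImg, coe_genImg, Units.val_one]
  obtain ⟨k, hk, he⟩ := List.mem_iff_getElem.1 (of_decide_eq_true (List.all_eq_true.1 q_words l hl))
  have hk' : k < 44 := by simp [lits] at hk; omega
  rw [List.getElem_take] at he
  have h := List.all_eq_true.1 g2_rels k (List.mem_range.2 hk')
  rw [List.getD_eq_getElem _ _ (by simp [lits]; omega)] at h
  rw [← he, spec14 h, toMat_one id14_check]

/-- The homomorphism onto the numbered copy of `G2(5)`. -/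
noncomputable def toG : Q →* (Matrix (Fin 14) (Fin 14) (ZMod 5))ˣ := PresentedGroup.toGroup q_rels

theorem rootW_lt : ((List.range 60).all fun j => (rootW.getD j []).all fun y =>
    Nat.blt y 10 && !(Nat.beq y 4) && !(Nat.beq y 9)) = true := by decide +kernel

/-- The letter numbered `y`, as a generator of `Q`. -/
def qLetter (y : Nat) : Fin 10 × Bool := if y < 4 then (Fin.ofNat 10 y, true) else (Fin.ofNat 10 (y - 5), false)

theorem qLetter_code : ∀ y : Fin 10, y.val ≠ 4 → y.val ≠ 9 →
    (expW0 [(LyChain1.ren (qLetter y.val).1, (qLetter y.val).2)]).map code = [y.val] := by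
  decide +kernel

theorem toG_word (w : List Nat) (h : ∀ y ∈ w, y < 10 ∧ y ≠ 4 ∧ y ≠ 9) :
    ∃ q : Q, ((toG q : (Matrix (Fin 14) (Fin 14) (ZMod 5))ˣ) : Matrix (Fin 14) (Fin 14) (ZMod 5)) =
      (w.map M14).prod := by
  refine ⟨PresentedGroup.mk _ (FreeGroup.mk (w.map qLetter)), ?_⟩
  show ((FreeGroup.lift qImg (FreeGroup.mk (w.map qLetter)) : (Matrix (Fin 14) (Fin 14) (ZMod 5))ˣ) :
    Matrix (Fin 14) (Fin 14) (ZMod 5)) = _
  rw [lift_qImg, coe_genImg0]
  refine congrArg (fun z : List Nat => (z.map M14).prod) ?_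
  rw [List.map_map]
  induction w with
  | nil => rfl
  | cons y w ih =>
    obtain ⟨h1, h2, h3⟩ := h y List.mem_cons_self
    have he := qLetter_code ⟨y, h1⟩ h2 h3
    simp only [expW0, List.map_cons, List.flatMap_cons, List.flatMap_nil, List.append_nil,
      List.map_append, Function.comp_apply] at he ih ⊢
    rw [he, ih fun z hz => h z (List.mem_cons_of_mem _ hz)]
    rfl

theorem toG_range : toG.range = G14 := by
  apply le_antisymm
  · rintro _ ⟨q, rfl⟩
    obtain ⟨w, rfl⟩ := PresentedGroup.mk_surjective _ q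
    show FreeGroup.lift qImg w ∈ G14
    rw [← FreeGroup.mk_toWord (x := w), lift_qImg, lift_genImg]
    exact lift_mem _
  · rw [G14, ChevalleyDatum.group, MonoidHom.map_closure, Subgroup.closure_le]
    rintro _ ⟨g, ⟨r, t, hg⟩, rfl⟩
    let j := 5 * r.val + t.val
    have hj : j < 60 := by
      have h1 : r.val < 12 := r.isLt
      have h2 : t.val < 5 := ZMod.val_lt t
      omega
    obtain ⟨q, hq⟩ := toG_word (rootW.getD j []) fun y hy => by
      have h := List.all_eq_true.1 (List.all_eq_true.1 rootW_lt j (List.mem_range.2 hj)) y hy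
      simp only [Bool.and_eq_true, Nat.blt_eq, Bool.not_eq_true', ← Bool.not_eq_true, Nat.beq_eq] at h
      exact ⟨h.1.1, h.1.2, h.2⟩
    refine ⟨q, Units.ext ?_⟩
    rw [hq, spec14 (List.all_eq_true.1 g2_roots j (List.mem_range.2 hj))]
    show M14 (10 + j) = reI (g : Matrix chevG2.Idx chevG2.Idx (ZMod 5))
    rw [hg, reI_root]

theorem q_iso : Nonempty (Q ≃* ↥(chevG2.group (ZMod 5))) := by
  let e : ↥(chevG2.group (ZMod 5)) ≃* ↥G14 :=
    Subgroup.equivMapOfInjective _ _ (Units.mapEquiv reI).injective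
  let f : Q →* ↥G14 := toG.codRestrict G14 fun q => toG_range.le ⟨q, rfl⟩
  have hs : Function.Surjective f := fun g => by
    obtain ⟨q, hq⟩ := (toG_range.ge g.2 : (g : (Matrix (Fin 14) (Fin 14) (ZMod 5))ˣ) ∈ toG.range)
    exact ⟨q, Subtype.ext hq⟩
  have : Finite Q := q_card.1
  have hc : Nat.card ↥(chevG2.group (ZMod 5)) = 5859000000 := by
    have h := Chev.g2_card_group (ZMod 5)
    simp [ZMod.card, Fin.prod_univ_two] at h
    omega
  exact ⟨(MulEquiv.ofBijective f (hs.bijective_of_nat_card_le
    (by rw [← Nat.card_congr e.toEquiv, hc]; exact q_card.2))).trans e.symm⟩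

/-- The subgroup generated by the images of a, b, c, d. -/
abbrev lyH : Subgroup (PresentedGroup lyRels) :=
  (Subgroup.closure ({Ly.a, Ly.b, Ly.c, Ly.d} : Set (FreeGroup Ly.Gen))).map (PresentedGroup.mk lyRels)

theorem def_mem {x y : FreeGroup Ly.Gen} (h : x * y⁻¹ ∈ Ly.extra)
    (hy : PresentedGroup.mk lyRels y ∈ lyH) : PresentedGroup.mk lyRels x ∈ lyH := by
  have h1 : PresentedGroup.mk lyRels (x * y⁻¹) = 1 := PresentedGroup.one_of_mem (Or.inr h)
  rw [map_mul, map_inv, mul_inv_eq_one] at h1
  exact h1 ▸ hy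

theorem base_mem {x : FreeGroup Ly.Gen} (h : x ∈ ({Ly.a, Ly.b, Ly.c, Ly.d} : Set (FreeGroup Ly.Gen))) :
    PresentedGroup.mk lyRels x ∈ lyH :=
  Subgroup.mem_map_of_mem _ (Subgroup.subset_closure h)

theorem gen_mem (i : Fin 10) :
    PresentedGroup.mk lyRels (FreeGroup.of (LyChain1.ren i)) ∈ lyH := by
  have ha := base_mem (x := Ly.a) (by simp)
  have hb := base_mem (x := Ly.b) (by simp)
  have hc := base_mem (x := Ly.c) (by simp)
  have hd := base_mem (x := Ly.d) (by simp)
  have h1 := def_mem (x := Ly.c1) (y := Ly.c) (by decide +kernel) hc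
  have h2 := def_mem (x := Ly.c2) (y := Ly.a⁻¹ * Ly.c * Ly.a) (by decide +kernel)
    (by simp only [map_mul, map_inv]; exact mul_mem (mul_mem (inv_mem ha) hc) ha)
  have h3 := def_mem (x := Ly.c3) (y := Ly.b⁻¹ * Ly.c * Ly.b) (by decide +kernel)
    (by simp only [map_mul, map_inv]; exact mul_mem (mul_mem (inv_mem hb) hc) hb)
  have h4 := def_mem (x := Ly.c4) (y := (Ly.b⁻¹)⁻¹ * Ly.c * Ly.b⁻¹) (by decide +kernel)
    (by simp only [map_mul, map_inv]; exact mul_mem (mul_mem (inv_mem (inv_mem hb)) hc) (inv_mem hb))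
  have h5 := def_mem (x := Ly.c5) (y := Ly.c1⁻¹ * Ly.c2⁻¹ * Ly.c1 * Ly.c2) (by decide +kernel)
    (by simp only [map_mul, map_inv]; exact mul_mem (mul_mem (mul_mem (inv_mem h1) (inv_mem h2)) h1) h2)
  have he := def_mem (x := Ly.e) (y := (Ly.b ^ 2)⁻¹ * (Ly.a⁻¹ * Ly.c1⁻¹ * Ly.a * Ly.c1) * Ly.a⁻¹ *
      Ly.c1 * Ly.a * Ly.d * Ly.c1 * Ly.b * Ly.a * Ly.b⁻¹ * Ly.d * Ly.c1 * Ly.d) (by decide +kernel)
    (by simp only [map_mul, map_inv, map_pow]
        repeat' first | exact ha | exact hb | exact hd | exact h1 | apply mul_mem | apply inv_mem | apply pow_mem)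
  fin_cases i
  exacts [ha, hb, hc, hd, he, h1, h2, h3, h4, h5]

theorem abcd_iso : Nonempty (↥((Subgroup.closure ({Ly.a, Ly.b, Ly.c, Ly.d} : Set (FreeGroup Ly.Gen))).map
    (PresentedGroup.mk lyRels)) ≃* ↥(chevG2.group (ZMod 5))) := by
  obtain ⟨ψ, hψ⟩ := exists_rename (rels := lyRels) LyChain1.relWords LyChain1.ren
    (one_of_ok (by decide +kernel))
  obtain ⟨e⟩ := q_iso
  have : IsSimpleGroup ↥(chevG2.group (ZMod 5)) := (Chev.g2_simple (ZMod 5) ⟨2, by decide, by decide⟩).1
  have : IsSimpleGroup Q := e.isSimpleGroup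
  have hne : ψ (PresentedGroup.mk _ (FreeGroup.of 0)) ≠ 1 := by
    rw [hψ, FreeGroup.map.of]
    exact of_a_ne
  have hi : Function.Injective ψ := by
    rcases ψ.normal_ker.eq_bot_or_eq_top with h | h
    · exact (MonoidHom.ker_eq_bot_iff ψ).1 h
    · exact absurd (MonoidHom.mem_ker.1 (h ▸ Subgroup.mem_top _)) hne
  have hr : ψ.range = (Subgroup.closure ({Ly.a, Ly.b, Ly.c, Ly.d} : Set (FreeGroup Ly.Gen))).map
      (PresentedGroup.mk lyRels) := by
    apply le_antisymm
    · rintro _ ⟨q, rfl⟩
      obtain ⟨w, rfl⟩ := PresentedGroup.mk_surjective _ q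
      rw [hψ]
      refine FreeGroup.induction_on w (by rw [_root_.map_one, _root_.map_one]; exact one_mem _) ?_ ?_ ?_
      · intro i
        change _ ∈ _
        rw [FreeGroup.map.of]
        exact gen_mem i
      · intro i hi
        rw [map_inv, map_inv]
        exact inv_mem hi
      · intro x y hx hy
        rw [map_mul, map_mul]
        exact mul_mem hx hy
    · rw [MonoidHom.map_closure, Subgroup.closure_le]
      rintro _ ⟨x, hx, rfl⟩
      rcases hx with rfl | rfl | rfl | rfl
      exacts [⟨_, hψ (FreeGroup.of 0)⟩, ⟨_, hψ (FreeGroup.of 1)⟩, ⟨_, hψ (FreeGroup.of 2)⟩,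
        ⟨_, hψ (FreeGroup.of 3)⟩]
  exact ⟨((MonoidHom.ofInjective hi).trans (MulEquiv.subgroupCongr hr)).symm.trans e⟩

end Cfsg.Agent.LyMat
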