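import Cfsg.Agent.LyMat.Maps

/-! Generated: kernel checks of relators in degree 111. -/

set_option Elab.async false
set_option maxRecDepth 100000

namespace Cfsg.Agent.LyMat

theorem ly21 : relB mask111 m111 id111 id111 (lits.getD 21 []) = true := by decide +kernel

theorem ly23 : relB mask111 m111 id111 id111 (lits.getD 23 []) = true := by decide +kernel

theorem ly24 : relB mask111 m111 id111 id111 (lits.getD 24 []) = true := by decide +kernel

theorem ly32 : relB mask111 m111 id111 id111 (lits.getD 32 []) = true := by decide +kernel

theorem ly33 : relB mask111 m111 id111 id111 (lits.getD 33 []) = true := by decide +kernel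

theorem ly41 : relB mask111 m111 id111 id111 (lits.getD 41 []) = true := by decide +kernel

theorem ly73 : relB mask111 m111 id111 id111 (lits.getD 73 []) = true := by decide +kernel

end Cfsg.Agent.LyMat
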