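import Cfsg.Agent.LyMat.Maps

/-! Generated: kernel checks of relators in degree 111. -/

set_option Elab.async false
set_option maxRecDepth 100000

namespace Cfsg.Agent.LyMat

theorem ly3 : relB mask111 m111 id111 id111 (lits.getD 3 []) = true := by decide +kernel

theorem ly13 : relB mask111 m111 id111 id111 (lits.getD 13 []) = true := by decide +kernel

theorem ly14 : relB mask111 m111 id111 id111 (lits.getD 14 []) = true := by decide +kernel

theorem ly34 : relB mask111 m111 id111 id111 (lits.getD 34 []) = true := by decide +kernel

theorem ly39 : relB mask111 m111 id111 id111 (lits.getD 39 []) = true := by decide +kernel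

theorem ly79 : relB mask111 m111 id111 id111 (lits.getD 79 []) = true := by decide +kernel

theorem ly85 : relB mask111 m111 id111 id111 (lits.getD 85 []) = true := by decide +kernel

end Cfsg.Agent.LyMat
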