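import Cfsg.Agent.LyMat.Maps

/-! Generated: kernel checks of relators in degree 111. -/

set_option Elab.async false
set_option maxRecDepth 100000

namespace Cfsg.Agent.LyMat

theorem ly4 : relB mask111 m111 id111 id111 (lits.getD 4 []) = true := by decide +kernel

theorem ly5 : relB mask111 m111 id111 id111 (lits.getD 5 []) = true := by decide +kernel

theorem ly6 : relB mask111 m111 id111 id111 (lits.getD 6 []) = true := by decide +kernel

theorem ly7 : relB mask111 m111 id111 id111 (lits.getD 7 []) = true := by decide +kernel

theorem ly8 : relB mask111 m111 id111 id111 (lits.getD 8 []) = true := by decide +kernel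

theorem ly9 : relB mask111 m111 id111 id111 (lits.getD 9 []) = true := by decide +kernel

theorem ly17 : relB mask111 m111 id111 id111 (lits.getD 17 []) = true := by decide +kernel

theorem ly20 : relB mask111 m111 id111 id111 (lits.getD 20 []) = true := by decide +kernel

theorem ly28 : relB mask111 m111 id111 id111 (lits.getD 28 []) = true := by decide +kernel

theorem ly31 : relB mask111 m111 id111 id111 (lits.getD 31 []) = true := by decide +kernel

theorem ly36 : relB mask111 m111 id111 id111 (lits.getD 36 []) = true := by decide +kernel

theorem ly44 : relB mask111 m111 id111 id111 (lits.getD 44 []) = true := by decide +kernel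

theorem ly45 : relB mask111 m111 id111 id111 (lits.getD 45 []) = true := by decide +kernel

theorem ly46 : relB mask111 m111 id111 id111 (lits.getD 46 []) = true := by decide +kernel

theorem ly47 : relB mask111 m111 id111 id111 (lits.getD 47 []) = true := by decide +kernel

theorem ly48 : relB mask111 m111 id111 id111 (lits.getD 48 []) = true := by decide +kernel

theorem ly49 : relB mask111 m111 id111 id111 (lits.getD 49 []) = true := by decide +kernel

theorem ly50 : relB mask111 m111 id111 id111 (lits.getD 50 []) = true := by decide +kernel

theorem ly51 : relB mask111 m111 id111 id111 (lits.getD 51 []) = true := by decide +kernel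

theorem ly52 : relB mask111 m111 id111 id111 (lits.getD 52 []) = true := by decide +kernel

theorem ly53 : relB mask111 m111 id111 id111 (lits.getD 53 []) = true := by decide +kernel

theorem ly54 : relB mask111 m111 id111 id111 (lits.getD 54 []) = true := by decide +kernel

theorem ly55 : relB mask111 m111 id111 id111 (lits.getD 55 []) = true := by decide +kernel

theorem ly56 : relB mask111 m111 id111 id111 (lits.getD 56 []) = true := by decide +kernel

theorem ly57 : relB mask111 m111 id111 id111 (lits.getD 57 []) = true := by decide +kernel

theorem ly58 : relB mask111 m111 id111 id111 (lits.getD 58 []) = true := by decide +kernel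

theorem ly59 : relB mask111 m111 id111 id111 (lits.getD 59 []) = true := by decide +kernel

theorem ly60 : relB mask111 m111 id111 id111 (lits.getD 60 []) = true := by decide +kernel

theorem ly61 : relB mask111 m111 id111 id111 (lits.getD 61 []) = true := by decide +kernel

theorem ly62 : relB mask111 m111 id111 id111 (lits.getD 62 []) = true := by decide +kernel

theorem ly63 : relB mask111 m111 id111 id111 (lits.getD 63 []) = true := by decide +kernel

theorem ly64 : relB mask111 m111 id111 id111 (lits.getD 64 []) = true := by decide +kernel

theorem ly65 : relB mask111 m111 id111 id111 (lits.getD 65 []) = true := by decide +kernel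

theorem ly66 : relB mask111 m111 id111 id111 (lits.getD 66 []) = true := by decide +kernel

theorem ly67 : relB mask111 m111 id111 id111 (lits.getD 67 []) = true := by decide +kernel

theorem ly68 : relB mask111 m111 id111 id111 (lits.getD 68 []) = true := by decide +kernel

theorem ly69 : relB mask111 m111 id111 id111 (lits.getD 69 []) = true := by decide +kernel

theorem ly70 : relB mask111 m111 id111 id111 (lits.getD 70 []) = true := by decide +kernel

theorem ly71 : relB mask111 m111 id111 id111 (lits.getD 71 []) = true := by decide +kernel

theorem ly75 : relB mask111 m111 id111 id111 (lits.getD 75 []) = true := by decide +kernel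

end Cfsg.Agent.LyMat
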