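import Cfsg.Agent.LyMat.Check0
import Cfsg.Agent.LyMat.Check1
import Cfsg.Agent.LyMat.Check2
import Cfsg.Agent.LyMat.Check3
import Cfsg.Agent.LyMat.Check4
import Cfsg.Agent.LyMat.Check5
import Cfsg.Agent.LyMat.Check6
import Cfsg.Agent.LyMat.Check7

/-! Generated: the checks, combined, and those in degree 14. -/

set_option Elab.async false
set_option maxRecDepth 100000

namespace Cfsg.Agent.LyMat

theorem ly_all : ∀ k, k < 86 → relB mask111 m111 id111 id111 (lits.getD k []) = true
  | 0, _ => ly0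
  | 1, _ => ly1
  | 2, _ => ly2
  | 3, _ => ly3
  | 4, _ => ly4
  | 5, _ => ly5
  | 6, _ => ly6
  | 7, _ => ly7
  | 8, _ => ly8
  | 9, _ => ly9
  | 10, _ => ly10
  | 11, _ => ly11
  | 12, _ => ly12
  | 13, _ => ly13
  | 14, _ => ly14
  | 15, _ => ly15
  | 16, _ => ly16
  | 17, _ => ly17
  | 18, _ => ly18
  | 19, _ => ly19
  | 20, _ => ly20
  | 21, _ => ly21
  | 22, _ => ly22
  | 23, _ => ly23
  | 24, _ => ly24
  | 25, _ => ly25
  | 26, _ => ly26
  | 27, _ => ly27
  | 28, _ => ly28
  | 29, _ => ly29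
  | 30, _ => ly30
  | 31, _ => ly31
  | 32, _ => ly32
  | 33, _ => ly33
  | 34, _ => ly34
  | 35, _ => ly35
  | 36, _ => ly36
  | 37, _ => ly37
  | 38, _ => ly38
  | 39, _ => ly39
  | 40, _ => ly40
  | 41, _ => ly41
  | 42, _ => ly42
  | 43, _ => ly43
  | 44, _ => ly44
  | 45, _ => ly45
  | 46, _ => ly46
  | 47, _ => ly47
  | 48, _ => ly48
  | 49, _ => ly49
  | 50, _ => ly50
  | 51, _ => ly51
  | 52, _ => ly52
  | 53, _ => ly53
  | 54, _ => ly54
  | 55, _ => ly55
  | 56, _ => ly56
  | 57, _ => ly57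
  | 58, _ => ly58
  | 59, _ => ly59
  | 60, _ => ly60
  | 61, _ => ly61
  | 62, _ => ly62
  | 63, _ => ly63
  | 64, _ => ly64
  | 65, _ => ly65
  | 66, _ => ly66
  | 67, _ => ly67
  | 68, _ => ly68
  | 69, _ => ly69
  | 70, _ => ly70
  | 71, _ => ly71
  | 72, _ => ly72
  | 73, _ => ly73
  | 74, _ => ly74
  | 75, _ => ly75
  | 76, _ => ly76
  | 77, _ => ly77
  | 78, _ => ly78
  | 79, _ => ly79
  | 80, _ => ly80
  | 81, _ => ly81
  | 82, _ => ly82
  | 83, _ => ly83
  | 84, _ => ly84
  | 85, _ => ly85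
  | n + 86, h => absurd h (by omega)

theorem ly_inv : ((List.range 5).all fun x => relB mask111 m111 id111 id111 [x, x + 5] &&
    relB mask111 m111 id111 id111 [x + 5, x]) = true := by decide +kernel

theorem g2_rels : ((List.range 44).all fun k => relB mask14 m14 id14 id14 (lits.getD k [])) = true := by
  decide +kernel

theorem g2_inv : ((List.range 5).all fun x => relB mask14 m14 id14 id14 [x, x + 5] &&
    relB mask14 m14 id14 id14 [x + 5, x]) = true := by decide +kernel

theorem g2_roots : ((List.range 60).all fun j => relB mask14 m14 id14 (rowsOf 14 (m14 (10 + j))) (rootW.getD j [])) = true := by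
  decide +kernel

theorem g2_gens : ((List.range 10).all fun x => relB mask14 m14 id14 (rowsOf 14 (m14 x)) (genW.getD x [])) = true := by
  decide +kernel

end Cfsg.Agent.LyMat
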