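import Cfsg.Agent.LyMat.Maps

/-! Generated: kernel checks of relators in degree 111. -/

set_option Elab.async false
set_option maxRecDepth 100000

namespace Cfsg.Agent.LyMat

theorem ly1 : relB mask111 m111 id111 id111 (lits.getD 1 []) = true := by decide +kernel

theorem ly2 : relB mask111 m111 id111 id111 (lits.getD 2 []) = true := by decide +kernel

theorem ly19 : relB mask111 m111 id111 id111 (lits.getD 19 []) = true := by decide +kernel

theorem ly29 : relB mask111 m111 id111 id111 (lits.getD 29 []) = true := by decide +kernel

theorem ly81 : relB mask111 m111 id111 id111 (lits.getD 81 []) = true := by decide +kernel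

theorem ly84 : relB mask111 m111 id111 id111 (lits.getD 84 []) = true := by decide +kernel

end Cfsg.Agent.LyMat
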