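import Mathlib
import Cfsg.Agent.CosetCert.Basic

/-!
# Packed matrices modulo 5

A row is one number with fields of 24 bits; products are reduced field by field.
-/

set_option autoImplicit false
set_option maxRecDepth 100000

namespace Cfsg.Agent.LyMat

open Cfsg.Agent.CosetCert

/-- A field. -/
def fieldN (r i : Nat) : Nat := r / 16777216 ^ i % 16777216

/-- Twenty-eight rows. -/
structure Blk where
  r0 : Nat
  r1 : Nat
  r2 : Nat
  r3 : Nat
  r4 : Nat
  r5 : Nat
  r6 : Nat
  r7 : Nat
  r8 : Nat
  r9 : Nat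
  r10 : Nat
  r11 : Nat
  r12 : Nat
  r13 : Nat
  r14 : Nat
  r15 : Nat
  r16 : Nat
  r17 : Nat
  r18 : Nat
  r19 : Nat
  r20 : Nat
  r21 : Nat
  r22 : Nat
  r23 : Nat
  r24 : Nat
  r25 : Nat
  r26 : Nat
  r27 : Nat

/-- The rows of a block. -/
def Blk.rows (b : Blk) : List Nat :=
  [b.r0, b.r1, b.r2, b.r3, b.r4, b.r5, b.r6, b.r7, b.r8, b.r9, b.r10, b.r11, b.r12, b.r13, b.r14, b.r15, b.r16, b.r17, b.r18, b.r19, b.r20, b.r21, b.r22, b.r23, b.r24, b.r25, b.r26, b.r27]

/-- All rows of a matrix stored by blocks. -/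
def flat (B : List Blk) : List Nat := B.flatMap Blk.rows

/-- The first `n` rows of a matrix stored by blocks. -/
def rowsOf (n : Nat) (B : List Blk) : List Nat := (flat B).take n

/-- Adding the multiples of the rows given by the fields of `v`, which are below eight. -/
noncomputable def comb (B : List Blk) (v : Nat) : Nat :=
  List.rec (motive := fun _ => Nat → Nat) (fun _ => 0)
    (fun b _ ih v => Blk.rec (motive := fun _ => Nat) (fun r0 r1 r2 r3 r4 r5 r6 r7 r8 r9 r10 r11 r12 r13 r14 r15 r16 r17 r18 r19 r20 r21 r22 r23 r24 r25 r26 r27 =>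
        force (ih (Nat.shiftRight v 672)) fun a => Nat.add (Nat.add (Nat.add (Nat.add (Nat.add (Nat.add (Nat.add (Nat.add (Nat.add (Nat.add (Nat.add (Nat.add (Nat.add (Nat.add (Nat.add (Nat.add (Nat.add (Nat.add (Nat.add (Nat.add (Nat.add (Nat.add (Nat.add (Nat.add (Nat.add (Nat.add (Nat.add (Nat.add (a)
          (Nat.mul (Nat.land (Nat.shiftRight v 0) 7) r0))
          (Nat.mul (Nat.land (Nat.shiftRight v 24) 7) r1))
          (Nat.mul (Nat.land (Nat.shiftRight v 48) 7) r2))
          (Nat.mul (Nat.land (Nat.shiftRight v 72) 7) r3))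
          (Nat.mul (Nat.land (Nat.shiftRight v 96) 7) r4))
          (Nat.mul (Nat.land (Nat.shiftRight v 120) 7) r5))
          (Nat.mul (Nat.land (Nat.shiftRight v 144) 7) r6))
          (Nat.mul (Nat.land (Nat.shiftRight v 168) 7) r7))
          (Nat.mul (Nat.land (Nat.shiftRight v 192) 7) r8))
          (Nat.mul (Nat.land (Nat.shiftRight v 216) 7) r9))
          (Nat.mul (Nat.land (Nat.shiftRight v 240) 7) r10))
          (Nat.mul (Nat.land (Nat.shiftRight v 264) 7) r11))
          (Nat.mul (Nat.land (Nat.shiftRight v 288) 7) r12))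
          (Nat.mul (Nat.land (Nat.shiftRight v 312) 7) r13))
          (Nat.mul (Nat.land (Nat.shiftRight v 336) 7) r14))
          (Nat.mul (Nat.land (Nat.shiftRight v 360) 7) r15))
          (Nat.mul (Nat.land (Nat.shiftRight v 384) 7) r16))
          (Nat.mul (Nat.land (Nat.shiftRight v 408) 7) r17))
          (Nat.mul (Nat.land (Nat.shiftRight v 432) 7) r18))
          (Nat.mul (Nat.land (Nat.shiftRight v 456) 7) r19))
          (Nat.mul (Nat.land (Nat.shiftRight v 480) 7) r20))
          (Nat.mul (Nat.land (Nat.shiftRight v 504) 7) r21))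
          (Nat.mul (Nat.land (Nat.shiftRight v 528) 7) r22))
          (Nat.mul (Nat.land (Nat.shiftRight v 552) 7) r23))
          (Nat.mul (Nat.land (Nat.shiftRight v 576) 7) r24))
          (Nat.mul (Nat.land (Nat.shiftRight v 600) 7) r25))
          (Nat.mul (Nat.land (Nat.shiftRight v 624) 7) r26))
          (Nat.mul (Nat.land (Nat.shiftRight v 648) 7) r27)) b)
    B v

/-- Eleven low bits in each of `k` fields. -/
def maskF : Nat → Nat
  | 0 => 0
  | k + 1 => 2047 + 16777216 * maskF k

/-- Reducing every field below 2048, given the mask. -/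
noncomputable def red (msk a : Nat) : Nat :=
  Nat.sub a (Nat.mul 5 (Nat.land (Nat.shiftRight (Nat.mul a 1639) 13) msk))

/-- The product, computed completely before it is used. -/
noncomputable def mulK {α : Type} (msk : Nat) (A : List Nat) (B : List Blk) (k : List Nat → α) : α :=
  List.rec (motive := fun _ => (List Nat → α) → α) (fun k => k [])
    (fun r _ ih k => force (red msk (comb B r)) fun x => ih fun l => k (x :: l)) A k

/-- Equality of lists. -/
noncomputable def eqB (A B : List Nat) : Bool :=
  List.rec (motive := fun _ => List Nat → Bool) (fun B => B.isEmpty)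
    (fun r _ ih B => Nat.beq (B.headD 0) r && (!B.isEmpty && ih B.tail)) A B


/-- Packing a function. -/
def pk : Nat → (Nat → Nat) → Nat
  | 0, _ => 0
  | k + 1, f => f 0 + 16777216 * pk k fun i => f (i + 1)

theorem pk_add : ∀ (k : Nat) (f g : Nat → Nat), pk k f + pk k g = pk k fun i => f i + g i
  | 0, _, _ => rfl
  | k + 1, f, g => by simp only [pk, ← pk_add k]; ring

theorem pk_mul : ∀ (k c : Nat) (f : Nat → Nat), c * pk k f = pk k fun i => c * f i
  | 0, _, _ => by simp [pk]
  | k + 1, c, f => by simp only [pk, ← pk_mul k]; ring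

theorem pk_zero : ∀ k : Nat, pk k (fun _ => 0) = 0
  | 0 => rfl
  | k + 1 => by simp [pk, pk_zero k]

theorem pk_congr : ∀ (k : Nat) {f g : Nat → Nat}, (∀ i < k, f i = g i) → pk k f = pk k g
  | 0, _, _, _ => rfl
  | k + 1, _, _, h => by
    simp only [pk]
    rw [h 0 (by omega), pk_congr k fun i hi => h (i + 1) (by omega)]

theorem pk_sum (k : Nat) (f : Nat → Nat → Nat) : ∀ n : Nat,
    ∑ l ∈ Finset.range n, pk k (f l) = pk k fun i => ∑ l ∈ Finset.range n, f l i
  | 0 => by simp [pk_zero]
  | n + 1 => by simp only [Finset.sum_range_succ, pk_sum k f n, pk_add]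

theorem field_succ (a i : Nat) : fieldN a (i + 1) = fieldN (a / 16777216) i := by
  rw [fieldN, fieldN, pow_succ', Nat.div_div_eq_div_mul]

theorem field_pk : ∀ (k : Nat) (f : Nat → Nat), (∀ i < k, f i < 16777216) →
    ∀ i < k, fieldN (pk k f) i = f i
  | 0, _, _, i, hi => absurd hi (Nat.not_lt_zero i)
  | k + 1, f, h, 0, _ => by
    have := h 0 (by omega)
    simp only [fieldN, pk, pow_zero, Nat.div_one]
    omega
  | k + 1, f, h, i + 1, hi => by
    have h0 := h 0 (by omega)
    rw [field_succ, pk, show (f 0 + 16777216 * pk k fun i => f (i + 1)) / 16777216 =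
      pk k fun i => f (i + 1) by omega]
    exact field_pk k _ (fun j hj => h _ (by omega)) i (by omega)

theorem pk_field : ∀ (k a : Nat), a < 16777216 ^ k → pk k (fieldN a) = a
  | 0, a, h => by simp [pk] at h ⊢; omega
  | k + 1, a, h => by
    have ha : a / 16777216 < 16777216 ^ k := by
      rw [Nat.div_lt_iff_lt_mul (by norm_num), ← pow_succ]
      exact h
    simp only [pk, field_succ, pk_field k _ ha]
    simp only [fieldN, pow_zero, Nat.div_one]
    omega

theorem pk_lt : ∀ (k : Nat) (f : Nat → Nat), (∀ i < k, f i < 16777216) → pk k f < 16777216 ^ k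
  | 0, _, _ => by simp [pk]
  | k + 1, f, h => by
    have h0 := h 0 (by omega)
    have ih := pk_lt k (fun i => f (i + 1)) fun i hi => h _ (by omega)
    simp only [pk]
    rw [pow_succ']
    omega

theorem land_mask : ∀ (k : Nat) (g : Nat → Nat), (∀ i < k, g i < 16777216) →
    Nat.land (Nat.shiftRight (pk k g) 13) (maskF k) = pk k fun i => g i / 8192
  | 0, _, _ => by simp [pk, maskF]
  | k + 1, g, h => by
    have h0 := h 0 (by omega)
    have ih := land_mask k (fun i => g (i + 1)) fun i hi => h _ (by omega)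
    change (pk k (fun i => g (i + 1)) >>> 13) &&& maskF k = _ at ih
    show (pk (k + 1) g >>> 13) &&& maskF (k + 1) = _
    rw [Nat.shiftRight_eq_div_pow] at ih ⊢
    simp only [pk, maskF]
    generalize pk k (fun i => g (i + 1)) = P at ih ⊢
    rw [← ih]
    generalize maskF k = m
    norm_num
    generalize hx : (g 0 + 16777216 * P) / 8192 = x
    have e1 : (x &&& (2047 + 16777216 * m)) % 2 ^ 24 = g 0 / 8192 := by
      rw [Nat.and_mod_two_pow, show (2047 + 16777216 * m) % 2 ^ 24 = 2 ^ 11 - 1 by omega,
        Nat.and_two_pow_sub_one_eq_mod]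
      omega
    have e2 : (x &&& (2047 + 16777216 * m)) / 2 ^ 24 = P / 8192 &&& m := by
      rw [Nat.and_div_two_pow, show (2047 + 16777216 * m) / 2 ^ 24 = m by omega,
        show x / 2 ^ 24 = P / 8192 by omega]
    omega

theorem red_pk (n : Nat) (f : Nat → Nat) (h : ∀ i < n, f i < 2048) :
    red (maskF n) (pk n f) = pk n fun i => f i % 5 := by
  have e1 : Nat.mul (pk n f) 1639 = pk n fun i => 1639 * f i := by
    rw [← pk_mul]; exact Nat.mul_comm _ _
  rw [red, e1, land_mask n _ fun i hi => by have := h i hi; omega]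
  show pk n f - 5 * pk n _ = _
  rw [pk_mul]
  have e2 : pk n f = pk n (fun i => f i % 5) + pk n fun i => 5 * (1639 * f i / 8192) := by
    rw [pk_add]
    refine pk_congr n fun i hi => ?_
    have := h i hi
    have hb : f i % 5 ≤ 4 := by omega
    omega
  omega

attribute [local irreducible] pk maskF

/-- A good matrix: `n` rows of `n` reduced fields. -/
def Good (n : Nat) (A : List Nat) : Prop :=
  A.length = n ∧ ∀ r ∈ A, ∃ f : Nat → Nat, (∀ j, f j < 5) ∧ r = pk n f

/-- The check of a good matrix. -/
noncomputable def goodC (n : Nat) (A : List Nat) : Bool :=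
  Nat.beq A.length n && A.all fun r => Nat.blt r (16777216 ^ n) &&
    allFrom (fun j => Nat.blt (fieldN r j) 5) 0 n

theorem good_of_check {n : Nat} {A : List Nat} (h : goodC n A = true) : Good n A := by
  simp only [goodC, Bool.and_eq_true, List.all_eq_true, Nat.blt_eq] at h
  refine ⟨Nat.eq_of_beq_eq_true h.1, fun r hr => ⟨fun j => if j < n then fieldN r j else 0,
    fun j => ?_, ?_⟩⟩
  · show (if j < n then fieldN r j else 0) < 5
    split
    · exact Nat.blt_eq.mp ((allFrom_iff _ _ _).1 (h.2 r hr).2 j (Nat.zero_le _) (by omega))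
    · norm_num
  · conv_lhs => rw [← pk_field n r (h.2 r hr).1]
    exact pk_congr n fun j hj => by rw [if_pos hj]

/-- The matrix of a list of rows. -/
def toMat (n : Nat) (A : List Nat) : Matrix (Fin n) (Fin n) (ZMod 5) :=
  Matrix.of fun i j => ((fieldN (A.getD i 0) j : ℕ) : ZMod 5)

theorem field_shift (v l : Nat) : fieldN (Nat.shiftRight v 672) l = fieldN v (28 + l) := by
  show fieldN (v >>> 672) l = _
  rw [fieldN, fieldN, Nat.shiftRight_eq_div_pow, Nat.div_div_eq_div_mul,
    show (2 : Nat) ^ 672 = 16777216 ^ 28 by rw [show (16777216 : Nat) = 2 ^ 24 by norm_num, ← pow_mul],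
    ← pow_add]

theorem field_low (v i : Nat) (h : fieldN v i < 8) :
    Nat.land (Nat.shiftRight v (24 * i)) 7 = fieldN v i := by
  show (v >>> (24 * i)) &&& 7 = _
  rw [Nat.shiftRight_eq_div_pow, show (2 : Nat) ^ (24 * i) = 16777216 ^ i by
      rw [show (16777216 : Nat) = 2 ^ 24 by norm_num, ← pow_mul],
    show (7 : Nat) = 2 ^ 3 - 1 by norm_num, Nat.and_two_pow_sub_one_eq_mod]
  rw [fieldN] at h ⊢
  have := Nat.mod_add_div (v / 16777216 ^ i) 16777216
  omega

theorem rows_length (b : Blk) : b.rows.length = 28 := rfl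

theorem comb_eq : ∀ (B : List Blk) (v : Nat), (∀ l, fieldN v l < 8) →
    comb B v = ∑ l ∈ Finset.range (flat B).length, fieldN v l * (flat B).getD l 0
  | [], _, _ => by simp [comb, flat]
  | b :: B, v, h => by
    have hlen : (flat (b :: B)).length = 28 + (flat B).length := by simp [flat, rows_length]
    have hflat : ∀ l, (flat (b :: B)).getD (28 + l) 0 = (flat B).getD l 0 := fun l => by
      simp only [flat, List.flatMap_cons]
      rw [List.getD_append_right _ _ _ _ (by rw [rows_length]; omega), rows_length,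
        show 28 + l - 28 = l by omega]
    have hb : ∀ l < 28, (flat (b :: B)).getD l 0 = b.rows.getD l 0 := fun l hl => by
      simp only [flat, List.flatMap_cons]
      rw [List.getD_append _ _ _ _ (by rw [rows_length]; omega)]
    have hlow : ∑ l ∈ Finset.range 28, fieldN v l * (flat (b :: B)).getD l 0 =
        ∑ l ∈ Finset.range 28, Nat.land (Nat.shiftRight v (24 * l)) 7 * b.rows.getD l 0 :=
      Finset.sum_congr rfl fun l hl => by rw [field_low v l (h l), hb l (Finset.mem_range.1 hl)]
    have ih := comb_eq B (Nat.shiftRight v 672) fun l => by rw [field_shift]; exact h _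
    rw [hlen, Finset.sum_range_add, hlow,
      show (∑ x ∈ Finset.range (flat B).length, fieldN v (28 + x) * (flat (b :: B)).getD (28 + x) 0) =
        comb B (Nat.shiftRight v 672) by
          rw [ih]; exact Finset.sum_congr rfl fun l _ => by rw [field_shift, hflat]]
    obtain ⟨r0, r1, r2, r3, r4, r5, r6, r7, r8, r9, r10, r11, r12, r13, r14, r15, r16, r17, r18, r19, r20, r21, r22, r23, r24, r25, r26, r27⟩ := b
    have hc : comb (⟨r0, r1, r2, r3, r4, r5, r6, r7, r8, r9, r10, r11, r12, r13, r14, r15, r16, r17, r18, r19, r20, r21, r22, r23, r24, r25, r26, r27⟩ :: B) v = force (comb B (Nat.shiftRight v 672)) (fun a => Nat.add (Nat.add (Nat.add (Nat.add (Nat.add (Nat.add (Nat.add (Nat.add (Nat.add (Nat.add (Nat.add (Nat.add (Nat.add (Nat.add (Nat.add (Nat.add (Nat.add (Nat.add (Nat.add (Nat.add (Nat.add (Nat.add (Nat.add (Nat.add (Nat.add (Nat.add (Nat.add (Nat.add (a)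
          (Nat.mul (Nat.land (Nat.shiftRight v 0) 7) r0))
          (Nat.mul (Nat.land (Nat.shiftRight v 24) 7) r1))
          (Nat.mul (Nat.land (Nat.shiftRight v 48) 7) r2))
          (Nat.mul (Nat.land (Nat.shiftRight v 72) 7) r3))
          (Nat.mul (Nat.land (Nat.shiftRight v 96) 7) r4))
          (Nat.mul (Nat.land (Nat.shiftRight v 120) 7) r5))
          (Nat.mul (Nat.land (Nat.shiftRight v 144) 7) r6))
          (Nat.mul (Nat.land (Nat.shiftRight v 168) 7) r7))
          (Nat.mul (Nat.land (Nat.shiftRight v 192) 7) r8))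
          (Nat.mul (Nat.land (Nat.shiftRight v 216) 7) r9))
          (Nat.mul (Nat.land (Nat.shiftRight v 240) 7) r10))
          (Nat.mul (Nat.land (Nat.shiftRight v 264) 7) r11))
          (Nat.mul (Nat.land (Nat.shiftRight v 288) 7) r12))
          (Nat.mul (Nat.land (Nat.shiftRight v 312) 7) r13))
          (Nat.mul (Nat.land (Nat.shiftRight v 336) 7) r14))
          (Nat.mul (Nat.land (Nat.shiftRight v 360) 7) r15))
          (Nat.mul (Nat.land (Nat.shiftRight v 384) 7) r16))
          (Nat.mul (Nat.land (Nat.shiftRight v 408) 7) r17))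
          (Nat.mul (Nat.land (Nat.shiftRight v 432) 7) r18))
          (Nat.mul (Nat.land (Nat.shiftRight v 456) 7) r19))
          (Nat.mul (Nat.land (Nat.shiftRight v 480) 7) r20))
          (Nat.mul (Nat.land (Nat.shiftRight v 504) 7) r21))
          (Nat.mul (Nat.land (Nat.shiftRight v 528) 7) r22))
          (Nat.mul (Nat.land (Nat.shiftRight v 552) 7) r23))
          (Nat.mul (Nat.land (Nat.shiftRight v 576) 7) r24))
          (Nat.mul (Nat.land (Nat.shiftRight v 600) 7) r25))
          (Nat.mul (Nat.land (Nat.shiftRight v 624) 7) r26))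
          (Nat.mul (Nat.land (Nat.shiftRight v 648) 7) r27)) := rfl
    rw [hc, force_eq]
    generalize comb B (Nat.shiftRight v 672) = a
    simp only [Finset.sum_range_succ, Finset.sum_range_zero, Blk.rows, List.getD_cons_succ,
      List.getD_cons_zero, Nat.add_eq, Nat.mul_eq, Nat.reduceMul, Nat.zero_add]
    ring

theorem mulK_eq {α : Type} (msk : Nat) : ∀ (A : List Nat) (B : List Blk) (k : List Nat → α),
    mulK msk A B k = k (A.map fun r => red msk (comb B r))
  | [], _, _ => rfl
  | r :: A, B, k => by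
    show force (red msk (comb B r)) (fun x => mulK msk A B fun l => k (x :: l)) = _
    rw [force_eq, mulK_eq msk A B]
    rfl

theorem mul_spec {n : Nat} (hn : n ≤ 127) {A : List Nat} {B : List Blk} (hA : Good n A)
    (hB : Good n (rowsOf n B)) :
    Good n (A.map fun r => red (maskF n) (comb B r)) ∧
      toMat n (A.map fun r => red (maskF n) (comb B r)) = toMat n A * toMat n (rowsOf n B) := by
  obtain ⟨hAl, hA⟩ := hA
  obtain ⟨hBl, hB⟩ := hB
  have hlen : n ≤ (flat B).length := by
    rw [rowsOf, List.length_take] at hBl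
    omega
  have hBf : ∀ l, l < n → ∃ f : Nat → Nat, (∀ j, f j < 5) ∧ (rowsOf n B).getD l 0 = pk n f := by
    intro l hl
    rw [List.getD_eq_getElem _ _ (hBl.symm ▸ hl)]
    exact hB _ (List.getElem_mem _)
  choose F hF7 hFeq using hBf
  have hrow : ∀ l, l < n → (flat B).getD l 0 = (rowsOf n B).getD l 0 := by
    intro l hl
    rw [rowsOf, List.getD_eq_getElem _ _ (lt_of_lt_of_le hl hlen),
      List.getD_eq_getElem _ _ (by rw [List.length_take]; omega), List.getElem_take]
  let F' : Nat → Nat → Nat := fun l j => if h : l < n then F l h j else 0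
  have hF' : ∀ l j, F' l j ≤ 4 := by
    intro l j
    simp only [F']
    split
    · have := hF7 l ‹_› j
      omega
    · omega
  have key : ∀ r ∈ A, red (maskF n) (comb B r) =
      pk n (fun j => (∑ l ∈ Finset.range n, fieldN r l * F' l j) % 5) := by
    intro r hr
    obtain ⟨f, hf, hfr⟩ := hA r hr
    rw [hfr]
    have hzero : ∀ l, n ≤ l → fieldN (pk n f) l = 0 := by
      intro l hl
      have hb := pk_lt n f fun i _ => (hf i).trans (by norm_num)
      rw [fieldN, Nat.div_eq_of_lt (lt_of_lt_of_le hb (Nat.pow_le_pow_right (by norm_num) hl)),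
        Nat.zero_mod]
    have h8 : ∀ l, fieldN (pk n f) l < 8 := by
      intro l
      rcases Nat.lt_or_ge l n with h | h
      · rw [field_pk n f (fun i _ => (hf i).trans (by norm_num)) l h]
        exact (hf l).trans (by norm_num)
      · rw [hzero l h]; norm_num
    have e : comb B (pk n f) = pk n (fun j => ∑ l ∈ Finset.range n, fieldN (pk n f) l * F' l j) := by
      rw [comb_eq B _ h8, ← pk_sum, show (flat B).length = n + ((flat B).length - n) by omega,
        Finset.sum_range_add]
      rw [show (∑ x ∈ Finset.range ((flat B).length - n),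
          fieldN (pk n f) (n + x) * (flat B).getD (n + x) 0) = 0 from
        Finset.sum_eq_zero fun x _ => by rw [hzero _ (by omega), Nat.zero_mul], Nat.add_zero]
      refine Finset.sum_congr rfl fun l hl => ?_
      have hl' := Finset.mem_range.1 hl
      rw [← pk_mul, hrow l hl', hFeq l hl']
      congr 1
      exact pk_congr n fun j _ => by simp [F', hl']
    rw [e, red_pk]
    intro j _
    calc (∑ l ∈ Finset.range n, fieldN (pk n f) l * F' l j) ≤ ∑ l ∈ Finset.range n, 16 := by
          refine Finset.sum_le_sum fun l hl => ?_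
          rw [field_pk n f (fun i _ => (hf i).trans (by norm_num)) l (Finset.mem_range.1 hl)]
          have h1 := hf l
          calc f l * F' l j ≤ 4 * 4 := Nat.mul_le_mul (by omega) (hF' l j)
            _ = 16 := by norm_num
      _ < 2048 := by simp; omega
  refine ⟨⟨by simpa using hAl, fun x hx => ?_⟩, ?_⟩
  · obtain ⟨r, hr, rfl⟩ := List.mem_map.1 hx
    exact ⟨_, fun j => Nat.mod_lt _ (by norm_num), key r hr⟩
  ext i j
  have hi : (i : Nat) < A.length := hAl.symm ▸ i.2
  rw [Matrix.mul_apply]
  simp only [toMat, Matrix.of_apply]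
  rw [List.getD_eq_getElem _ _ (by simpa using hi), List.getElem_map, key _ (List.getElem_mem _),
    field_pk n _ (fun l _ => (Nat.mod_lt _ (by norm_num)).trans (by norm_num)) j j.2,
    ZMod.natCast_mod, Nat.cast_sum, Finset.sum_range]
  refine Finset.sum_congr rfl fun l _ => ?_
  rw [Nat.cast_mul, List.getD_eq_getElem _ _ hi]
  congr 1
  rw [hFeq l l.2, field_pk n _ (fun m _ => (hF7 l l.2 m).trans (by norm_num)) j j.2]
  simp [F', l.2]

/-- The identity, with `n` rows. -/
def idM (n : Nat) : List Nat := (List.range n).map fun i => 16777216 ^ i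

/-- The product of a list of matrices of `G`, applied to `k`. -/
noncomputable def wordK {α : Type} (msk : Nat) (G : Nat → List Blk) (w : List Nat) (P : List Nat)
    (k : List Nat → α) : α :=
  List.rec (motive := fun _ => List Nat → α) (fun P => k P)
    (fun x _ ih P => mulK msk P (G x) ih) w P

/-- The product over a word is `T`. -/
noncomputable def relB (msk : Nat) (G : Nat → List Blk) (I T w : List Nat) : Bool :=
  wordK msk G w I fun P => eqB P T

theorem eqB_eq : ∀ {A B : List Nat}, eqB A B = true → A = B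
  | [], [], _ => rfl
  | [], _ :: _, h => absurd h (by simp [eqB])
  | r :: A, [], h => absurd h (by simp [eqB])
  | r :: A, s :: B, h => by
    have h' : (Nat.beq s r && eqB A B) = true := by simpa [eqB] using h
    rw [Bool.and_eq_true] at h'
    rw [Nat.eq_of_beq_eq_true h'.1, eqB_eq h'.2]

theorem wordK_spec {α : Type} {n : Nat} (hn : n ≤ 127) (G : Nat → List Blk) (hG : ∀ x, Good n (rowsOf n (G x))) :
    ∀ (w P : List Nat) (k : List Nat → α), Good n P →
    ∃ Q, Good n Q ∧ toMat n Q = toMat n P * (w.map fun x => toMat n (rowsOf n (G x))).prod ∧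
      wordK (maskF n) G w P k = k Q
  | [], P, k, h => ⟨P, h, by simp, rfl⟩
  | x :: w, P, k, h => by
    obtain ⟨h1, h2⟩ := mul_spec hn h (hG x)
    obtain ⟨Q, hQ, hQm, hQk⟩ := wordK_spec hn G hG w _ k h1
    refine ⟨Q, hQ, by rw [hQm, h2, List.map_cons, List.prod_cons, mul_assoc], ?_⟩
    show mulK (maskF n) P (G x) (fun P' => wordK (maskF n) G w P' k) = _
    rw [mulK_eq]
    exact hQk

theorem relB_spec {n msk : Nat} (hn : n ≤ 127) (hm : msk = maskF n) {G : Nat → List Blk}
    (hG : ∀ x, Good n (rowsOf n (G x))) {I T w : List Nat} (hI : Good n I) (hI1 : toMat n I = 1)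
    (h : relB msk G I T w = true) : (w.map fun x => toMat n (rowsOf n (G x))).prod = toMat n T := by
  subst hm
  obtain ⟨Q, -, hQ, hk⟩ := wordK_spec hn G hG w I (fun P => eqB P T) hI
  rw [relB, hk] at h
  rw [← eqB_eq h, hQ, hI1, one_mul]

end Cfsg.Agent.LyMat
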